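import Mathlib
import Cfsg.Agent.Lib.Helper93.M11U.Defs
import Cfsg.Agent.Lib.Helper91.M11Inv
import Cfsg.Agent.Lib.Helper91.M11Sylow
import Cfsg.Agent.Lib.Helper4.ReeTor.Z3a

set_option autoImplicit false

/-! Project S0420 (helper93), package [K12]: a subgroup of order `660` with a fixed vector in
`θ₁`. Also general tools about `sumOn`. -/

universe u

namespace Cfsg.Agent.Lib.Helper4.M11U

open Cfsg.Agent.Lib.Helper93.M11U Cfsg.Agent.Lib.Helper4.ReeTor

variable {G : Type u} [Group G]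

/-- `sumOn` as a sum over the whole group -/
theorem sumOn_eq_sum [Fintype G] [DecidableEq G] (χ : G → ℂ) (H : Subgroup G)
    [DecidablePred (· ∈ H)] : sumOn χ H = ∑ g : G, if g ∈ H then χ g else 0 := by
  unfold sumOn
  rw [finsum_eq_sum_of_fintype, ← Finset.sum_filter]
  exact (Finset.sum_subtype (Finset.univ.filter (· ∈ H)) (by simp) χ).symm

/-- the sum over a subgroup `D` from the sum over `F ≤ D` when `χ` is constant on `D \ F` -/
theorem sumOn_of_le [Finite G] (χ : G → ℂ) {F D : Subgroup G} (hFD : F ≤ D) (c : ℂ)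
    (hc : ∀ h ∈ D, h ∉ F → χ h = c) :
    sumOn χ D = sumOn χ F + ((Nat.card D : ℂ) - (Nat.card F : ℂ)) * c := by
  classical
  have := Fintype.ofFinite G
  have hcard : ∀ H : Subgroup G, (Nat.card H : ℂ) = ∑ g : G, if g ∈ H then (1 : ℂ) else 0 := by
    intro H
    rw [Nat.card_eq_fintype_card, Fintype.card_subtype, Finset.sum_boole]
  rw [sumOn_eq_sum χ D, sumOn_eq_sum χ F, hcard D, hcard F, ← Finset.sum_sub_distrib,
    Finset.sum_mul, ← Finset.sum_add_distrib]
  apply Finset.sum_congr rfl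
  intro g _
  by_cases hD : g ∈ D
  · by_cases hF : g ∈ F
    · simp [hD, hF]
    · simp [hD, hF, hc g hD hF]
  · have hF : g ∉ F := fun h => hD (hFD h)
    simp [hD, hF]

theorem sumOn_bot [Finite G] (χ : G → ℂ) : sumOn χ (⊥ : Subgroup G) = χ 1 := by
  classical
  have := Fintype.ofFinite G
  rw [sumOn_eq_sum χ ⊥]
  simp [Subgroup.mem_bot]

/-- the elements of `⟨t⟩` for an involution `t` -/
theorem mem_zpowers_invol {t : G} (htt : t * t = 1) {h : G} (hh : h ∈ Subgroup.zpowers t) :
    h = 1 ∨ h = t := by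
  obtain ⟨k, rfl⟩ := Subgroup.mem_zpowers_iff.1 hh
  have h2 : t ^ (2 : ℤ) = 1 := by
    rw [zpow_two]
    exact htt
  rcases Int.even_or_odd' k with ⟨m, rfl | rfl⟩
  · left
    rw [zpow_mul, h2, one_zpow]
  · right
    rw [zpow_add, zpow_mul, h2, one_zpow, one_mul, zpow_one]

/-- an element of order `11` normalising a subgroup `Q` of order `11` of a group whose order
is not divisible by `121` lies in `Q` -/
theorem mem_of_order_eleven [Finite G] (hG : ¬ 121 ∣ Nat.card G) (Q : Subgroup G)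
    (hQ : Nat.card Q = 11) {c : G} (hcB : c ∈ Subgroup.normalizer (Q : Set G))
    (hc : orderOf c = 11) : c ∈ Q := by
  by_contra hcQ
  have hn : ∀ h ∈ Subgroup.zpowers c, ∀ u ∈ Q, h * u * h⁻¹ ∈ Q := by
    intro h hh u hu
    have hhB : h ∈ Subgroup.normalizer (Q : Set G) := (Subgroup.zpowers_le.2 hcB) hh
    exact (Subgroup.mem_normalizer_iff.1 hhB u).1 hu
  have hzc : Nat.card (Subgroup.zpowers c) = 11 := by rw [Nat.card_zpowers, hc]
  have hint : ∀ x ∈ Q, x ∈ Subgroup.zpowers c → x = 1 := by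
    intro x hxQ hxc
    by_contra hx1
    have hox : orderOf x = 11 := by
      have h1 : orderOf x ∣ 11 := by
        rw [← hQ]
        exact Subgroup.orderOf_dvd_natCard Q hxQ
      rcases (Nat.dvd_prime (by norm_num : Nat.Prime 11)).1 h1 with h | h
      · exact absurd (orderOf_eq_one_iff.1 h) hx1
      · exact h
    have hle : Subgroup.zpowers x ≤ Subgroup.zpowers c := Subgroup.zpowers_le.2 hxc
    have heq : Subgroup.zpowers x = Subgroup.zpowers c := by
      apply Subgroup.eq_of_le_of_card_ge hle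
      rw [hzc, Nat.card_zpowers, hox]
    have hcx : c ∈ Subgroup.zpowers x := by
      rw [heq]
      exact Subgroup.mem_zpowers c
    exact hcQ ((Subgroup.zpowers_le.2 hxQ) hcx)
  have hcard := card_semi Q (Subgroup.zpowers c) hn hint
  rw [hQ, hzc] at hcard
  apply hG
  have h2 := Subgroup.card_subgroup_dvd_card (semi Q (Subgroup.zpowers c) hn)
  rw [hcard] at h2
  exact h2

theorem pkgK12 : PkgK12.{u} := by
  intro G _ _ T hsimple hG hFD hStab
  classical
  have hp11 : Fact (Nat.Prime 11) := ⟨by norm_num⟩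
  have hp5 : Fact (Nat.Prime 5) := ⟨by norm_num⟩
  have hp2 : Fact (Nat.Prime 2) := ⟨by norm_num⟩
  have h121 : ¬ 121 ∣ Nat.card G := by
    rw [hG]
    norm_num
  -- the Sylow 11-subgroup and its normaliser
  obtain ⟨Q⟩ : Nonempty (Sylow 11 G) := inferInstance
  obtain ⟨hQ, hNQ, hCQ, -⟩ := Cfsg.Agent.Lib.Helper91.M11.sylow11 hG Q
  have hQB : (Q : Subgroup G) ≤ Subgroup.normalizer ((Q : Subgroup G) : Set G) :=
    Subgroup.le_normalizer
  -- an element of order 5 in the normaliser
  obtain ⟨f', hf'⟩ : ∃ x : ↥(Subgroup.normalizer ((Q : Subgroup G) : Set G)), orderOf x = 5 := by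
    have := Fintype.ofFinite ↥(Subgroup.normalizer ((Q : Subgroup G) : Set G))
    apply exists_prime_orderOf_dvd_card 5
    rw [← Nat.card_eq_fintype_card, hNQ]
    norm_num
  have hfo : orderOf (f' : G) = 5 := by
    rw [Subgroup.orderOf_coe]
    exact hf'
  have hfB : (f' : G) ∈ Subgroup.normalizer ((Q : Subgroup G) : Set G) := f'.2
  generalize (f' : G) = f at hfo hfB
  have hFcard : Nat.card (Subgroup.zpowers f) = 5 := by rw [Nat.card_zpowers, hfo]
  have hFp : IsPGroup 5 (Subgroup.zpowers f) :=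
    IsPGroup.of_card (n := 1) (by rw [hFcard]; norm_num)
  have hFidx : ¬ 5 ∣ (Subgroup.zpowers f).index := by
    have h1 := (Subgroup.zpowers f).card_mul_index
    rw [hFcard, hG] at h1
    have h2 : (Subgroup.zpowers f).index = 1584 := by omega
    rw [h2]
    norm_num
  obtain ⟨-, hNF, hCF, -⟩ := Cfsg.Agent.Lib.Helper91.M11.sylow5_full hG (hFp.toSylow hFidx)
  rw [IsPGroup.toSylow_coe] at hNF hCF
  -- an involution in the normaliser of `⟨f⟩`
  obtain ⟨t', ht'⟩ : ∃ x : ↥(Subgroup.normalizer ((Subgroup.zpowers f : Subgroup G) : Set G)),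
      orderOf x = 2 := by
    have := Fintype.ofFinite ↥(Subgroup.normalizer ((Subgroup.zpowers f : Subgroup G) : Set G))
    apply exists_prime_orderOf_dvd_card 2
    rw [← Nat.card_eq_fintype_card, hNF]
    norm_num
  have hto : orderOf (t' : G) = 2 := by
    rw [Subgroup.orderOf_coe]
    exact ht'
  have htN : (t' : G) ∈ Subgroup.normalizer ((Subgroup.zpowers f : Subgroup G) : Set G) := t'.2
  generalize (t' : G) = t at hto htN
  have htt : t * t = 1 := by rw [← pow_two, ← hto, pow_orderOf_eq_one]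
  have htF : t ∉ Subgroup.zpowers f := by
    intro h
    have h1 := Subgroup.orderOf_dvd_natCard _ h
    rw [hto, hFcard] at h1
    omega
  have htn : ∀ v ∈ Subgroup.zpowers f, t * v * t⁻¹ ∈ Subgroup.zpowers f :=
    fun v hv => (Subgroup.mem_normalizer_iff.1 htN v).1 hv
  have hFcomm : ∀ a ∈ Subgroup.zpowers f, ∀ b ∈ Subgroup.zpowers f, a * b = b * a := by
    intro a ha b hb
    obtain ⟨i, rfl⟩ := Subgroup.mem_zpowers_iff.1 ha
    obtain ⟨j, rfl⟩ := Subgroup.mem_zpowers_iff.1 hb
    rw [← zpow_add, ← zpow_add, add_comm]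
  have hinvF : ∀ v ∈ Subgroup.zpowers f, t * v * t⁻¹ = v⁻¹ := by
    intro v hv
    by_contra hne
    have hg1 : v * (t * v * t⁻¹) ≠ 1 := fun h => hne (eq_inv_of_mul_eq_one_right h)
    have hgF : v * (t * v * t⁻¹) ∈ Subgroup.zpowers f := Subgroup.mul_mem _ hv (htn v hv)
    have hab := hFcomm v hv (t * v * t⁻¹) (htn v hv)
    have h1 : t * (v * (t * v * t⁻¹)) * t⁻¹ = (t * v * t⁻¹) * ((t * t) * v * (t * t)⁻¹) := by
      group
    rw [htt, one_mul, inv_one, mul_one, ← hab] at h1
    have hcomm : t * (v * (t * v * t⁻¹)) = (v * (t * v * t⁻¹)) * t := mul_inv_eq_iff_eq_mul.1 h1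
    have hcen : t ∈ Subgroup.centralizer ({v * (t * v * t⁻¹)} : Set G) := by
      rw [Subgroup.mem_centralizer_iff]
      intro w hw
      rw [Set.mem_singleton_iff] at hw
      subst hw
      exact hcomm.symm
    rw [Cfsg.Agent.Lib.Helper91.M11.centralizer_singleton_eq (by norm_num : Nat.Prime 5) _ hFcard
      _ hgF hg1, hCF] at hcen
    exact htF hcen
  -- the dihedral group `D = ⟨f⟩⟨t⟩`
  have hn : ∀ h ∈ Subgroup.zpowers t, ∀ u ∈ Subgroup.zpowers f,
      h * u * h⁻¹ ∈ Subgroup.zpowers f := by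
    intro h hh u hu
    rcases mem_zpowers_invol htt hh with h1 | h1
    · rw [h1]
      simpa using hu
    · rw [h1]
      exact htn u hu
  have hint : ∀ x ∈ Subgroup.zpowers f, x ∈ Subgroup.zpowers t → x = 1 := by
    intro x hxF hxt
    rcases mem_zpowers_invol htt hxt with h1 | h1
    · exact h1
    · rw [h1] at hxF
      exact absurd hxF htF
  have hDcard : Nat.card (semi (Subgroup.zpowers f) (Subgroup.zpowers t) hn) = 10 := by
    rw [card_semi _ _ hn hint, hFcard, Nat.card_zpowers, hto]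
  have hFD' : Subgroup.zpowers f ≤ semi (Subgroup.zpowers f) (Subgroup.zpowers t) hn := by
    intro v hv
    exact ⟨v, hv, 1, Subgroup.one_mem _, (mul_one v).symm⟩
  have hDord : ∀ h ∈ semi (Subgroup.zpowers f) (Subgroup.zpowers t) hn,
      h ∉ Subgroup.zpowers f → orderOf h = 2 := by
    rintro h ⟨v, hv, w, hw, rfl⟩ hnot
    rcases mem_zpowers_invol htt hw with h1 | h1
    · rw [h1, mul_one] at hnot
      exact absurd hv hnot
    · rw [h1] at hnot ⊢
      apply orderOf_eq_prime
      · rw [pow_two]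
        have h2 : v * t * (v * t) = v * (t * v * t⁻¹) * (t * t) := by group
        rw [h2, hinvF v hv, htt, mul_one, mul_inv_cancel]
      · intro h2
        apply hnot
        rw [h2]
        exact Subgroup.one_mem _
  -- the elements of `N(Q) \ Q` have order `5`
  have hBord : ∀ b ∈ Subgroup.normalizer ((Q : Subgroup G) : Set G), b ∉ (Q : Subgroup G) →
      orderOf b = 5 := by
    intro b hb hbQ
    have ho : orderOf b ∣ 55 := by
      rw [← hNQ]
      exact Subgroup.orderOf_dvd_natCard _ hb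
    have hmem : orderOf b ∈ Nat.divisors 55 := Nat.mem_divisors.2 ⟨ho, by norm_num⟩
    have hdiv : Nat.divisors 55 = {1, 5, 11, 55} := by decide
    rw [hdiv] at hmem
    simp only [Finset.mem_insert, Finset.mem_singleton] at hmem
    rcases hmem with h | h | h | h
    · exfalso
      apply hbQ
      rw [orderOf_eq_one_iff.1 h]
      exact Subgroup.one_mem _
    · exact h
    · exact absurd (mem_of_order_eleven h121 (Q : Subgroup G) hQ hb h) hbQ
    · exfalso
      have hc : orderOf (b ^ 5) = 11 := by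
        rw [orderOf_pow' b (by norm_num : (5 : ℕ) ≠ 0), h]
        norm_num
      have hcB : b ^ 5 ∈ Subgroup.normalizer ((Q : Subgroup G) : Set G) :=
        Subgroup.pow_mem _ hb 5
      have hcQ := mem_of_order_eleven h121 (Q : Subgroup G) hQ hcB hc
      have hc1 : b ^ 5 ≠ 1 := by
        intro h1
        rw [h1, orderOf_one] at hc
        omega
      have hcen : b ∈ Subgroup.centralizer ({b ^ 5} : Set G) := by
        rw [Subgroup.mem_centralizer_iff]
        intro w hw
        rw [Set.mem_singleton_iff] at hw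
        subst hw
        rw [← pow_succ, ← pow_succ']
      rw [Cfsg.Agent.Lib.Helper91.M11.centralizer_singleton_eq (by norm_num : Nat.Prime 11) _ hQ
        _ hcQ hc1, hCQ] at hcen
      exact hbQ hcen
  -- the sums of `θ₁`
  have hθ1 : (T.θ₁ : G → ℂ) 1 = 11 := T.deg.2.2.2.2.2.2.2.1
  have hv2 : ∀ x : G, orderOf x = 2 → (T.θ₁ : G → ℂ) x = 3 :=
    fun x hx => (T.v2 x hx).2.2.2.2.2.2.2.1
  have hv5 : ∀ x : G, orderOf x = 5 → (T.θ₁ : G → ℂ) x = 1 :=
    fun x hx => (T.v5 x hx).2.2.2.2.2.2.2.1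
  have hFord : ∀ h ∈ Subgroup.zpowers f, h ∉ (⊥ : Subgroup G) → orderOf h = 5 := by
    intro h hh hbot
    have h1 : orderOf h ∣ 5 := by
      rw [← hFcard]
      exact Subgroup.orderOf_dvd_natCard _ hh
    rcases (Nat.dvd_prime (by norm_num : Nat.Prime 5)).1 h1 with h2 | h2
    · exact absurd (Subgroup.mem_bot.2 (orderOf_eq_one_iff.1 h2)) hbot
    · exact h2
  have hsF : sumOn (T.θ₁ : G → ℂ) (Subgroup.zpowers f) = 15 := by
    rw [sumOn_of_le _ (bot_le : (⊥ : Subgroup G) ≤ Subgroup.zpowers f) 1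
      (fun h hh hbot => hv5 h (hFord h hh hbot)), sumOn_bot, hθ1, hFcard, Subgroup.card_bot]
    norm_num
  have hsD : sumOn (T.θ₁ : G → ℂ) (semi (Subgroup.zpowers f) (Subgroup.zpowers t) hn) = 30 := by
    rw [sumOn_of_le _ hFD' 3 (fun h hh hnot => hv2 h (hDord h hh hnot)), hsF, hDcard, hFcard]
    norm_num
  obtain ⟨d, hd, -⟩ := hFD G (T.θ₁ : G → ℂ)
    (by
      obtain ⟨n, ρ, -, hρ⟩ := T.θ₁.2
      exact ⟨n, ρ, hρ⟩)
  have hsB : sumOn (T.θ₁ : G → ℂ) (Subgroup.normalizer ((Q : Subgroup G) : Set G)) =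
      ((11 * d (Q : Subgroup G) + 44 : ℕ) : ℂ) := by
    rw [sumOn_of_le _ hQB 1 (fun h hh hnot => hv5 h (hBord h hh hnot)), hd, hNQ, hQ]
    push_cast
    ring
  have hsB0 : sumOn (T.θ₁ : G → ℂ) (Subgroup.normalizer ((Q : Subgroup G) : Set G)) ≠ 0 := by
    rw [hsB]
    exact_mod_cast (by omega : 11 * d (Q : Subgroup G) + 44 ≠ 0)
  have hFB : Subgroup.zpowers f ≤ Subgroup.normalizer ((Q : Subgroup G) : Set G) :=
    Subgroup.zpowers_le.2 hfB
  obtain ⟨M, hBM, hDM, hMtop, hsM⟩ := hStab G (T.θ₁ : G → ℂ) T.θ₁.2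
    (by rw [hθ1]; norm_num) (Subgroup.zpowers f) _ _ hFB hFD'
    (by rw [hsF, hsD, hDcard, hFcard]; norm_num) hsB0
  refine ⟨M, ?_, hsM⟩
  -- the order of `M`
  have hQM : (Q : Subgroup G) ≤ M := hQB.trans hBM
  have h10 : 10 ∣ Nat.card M := by
    rw [← hDcard]
    exact Subgroup.card_dvd_of_le hDM
  have hMdvd : Nat.card M ∣ 7920 := by
    rw [← hG]
    exact Subgroup.card_subgroup_dvd_card M
  have hMne : Nat.card M ≠ 7920 := by
    intro h
    apply hMtop
    exact Subgroup.eq_top_of_card_eq M (by rw [h, hG])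
  have hQMcard : Nat.card ((Q : Subgroup G).subgroupOf M) = 11 := by
    rw [Nat.card_congr (Subgroup.subgroupOfEquivOfLe hQM).toEquiv, hQ]
  have hQMp : IsPGroup 11 ((Q : Subgroup G).subgroupOf M) :=
    IsPGroup.of_card (n := 1) (by rw [hQMcard]; norm_num)
  have hQMidx : ¬ 11 ∣ ((Q : Subgroup G).subgroupOf M).index := by
    intro h
    have h1 := ((Q : Subgroup G).subgroupOf M).card_mul_index
    rw [hQMcard] at h1
    obtain ⟨k, hk⟩ := h
    rw [hk] at h1
    have h2 : 121 ∣ 7920 := by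
      refine Dvd.dvd.trans ⟨k, ?_⟩ hMdvd
      rw [← h1]
      ring
    omega
  have hcount : Nat.card (Sylow 11 ↥M) =
      ((Subgroup.normalizer ((Q : Subgroup G) : Set G)).subgroupOf M).index := by
    rw [Sylow.card_eq_index_normalizer (hQMp.toSylow hQMidx)]
    congr 1
    exact (Subgroup.subgroupOf_normalizer_eq hQM).symm
  have hmod := card_sylow_modEq_one 11 ↥M
  have hBMcard : Nat.card ((Subgroup.normalizer ((Q : Subgroup G) : Set G)).subgroupOf M) =
      55 := by
    rw [Nat.card_congr (Subgroup.subgroupOfEquivOfLe hBM).toEquiv, hNQ]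
  have hmul := ((Subgroup.normalizer ((Q : Subgroup G) : Set G)).subgroupOf M).card_mul_index
  rw [hBMcard, ← hcount] at hmul
  generalize Nat.card (Sylow 11 ↥M) = n at hmul hmod
  have hn144 : n ∣ 144 := by
    rw [← hmul] at hMdvd
    exact Nat.dvd_of_mul_dvd_mul_left (by norm_num : 0 < 55) hMdvd
  have hnle : n ≤ 144 := Nat.le_of_dvd (by norm_num) hn144
  have hn2 : n % 2 = 0 := by
    rw [← hmul] at h10
    omega
  have hn11 : n % 11 = 1 := hmod
  have hnne : n ≠ 144 := by
    rintro rfl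
    exact hMne hmul.symm
  have key : ∀ n ≤ 144, n ∣ 144 → n % 2 = 0 → n % 11 = 1 → n ≠ 144 → n = 12 := by decide
  rw [← hmul, key n hnle hn144 hn2 hn11 hnne]

end Cfsg.Agent.Lib.Helper4.M11U
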