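import Mathlib
import Cfsg.Agent.Lib.Helper93.M11U.Defs
import Cfsg.Agent.Lib.Helper91.M11Inv
import Cfsg.Agent.Lib.Helper91.M11Sylow
import Cfsg.Agent.Lib.Helper4.ReeTor.Z3a
import Cfsg.Agent.Lib.Helper4.M11U.K12

set_option autoImplicit false

/-! Project S0420 (helper93), package [F20]: the normaliser of `⟨f⟩` fixes the whole fixed
space of `⟨f⟩` in `χa`. -/

universe u

namespace Cfsg.Agent.Lib.Helper4.M11U

open Cfsg.Agent.Lib.Helper93.M11U Cfsg.Agent.Lib.Helper4.ReeTor

variable {G : Type u} [Group G]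

/-- characters are class functions -/
theorem char_conj_eq {χ : G → ℂ} (h : Cfsg.IsCharacter G χ) (x g : G) :
    χ (x * g * x⁻¹) = χ g := by
  obtain ⟨n, ρ, rfl⟩ := h
  exact Representation.char_conj ρ g x

/-- if `h` normalises the finite subgroup `F` and centralises no nontrivial element of it,
then every element of the coset `F h` is conjugate to `h` under `F` -/
theorem conj_coset [Finite G] (F : Subgroup G) (h : G)
    (hn : ∀ y ∈ F, h * y * h⁻¹ ∈ F) (hc : ∀ y ∈ F, h * y = y * h → y = 1) :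
    ∀ y ∈ F, ∃ g ∈ F, g * h * g⁻¹ = y * h := by
  classical
  let φ : F → F := fun g => ⟨(g : G) * (h * (g : G)⁻¹ * h⁻¹),
    F.mul_mem g.2 (hn _ (F.inv_mem g.2))⟩
  have hinj : Function.Injective φ := by
    intro g g' hgg
    have h1 : (g : G) * (h * (g : G)⁻¹ * h⁻¹) = (g' : G) * (h * (g' : G)⁻¹ * h⁻¹) :=
      congrArg Subtype.val hgg
    have h2 : h * ((g' : G)⁻¹ * (g : G)) = ((g' : G)⁻¹ * (g : G)) * h := by
      have h3 : (g' : G)⁻¹ * (g : G) = h * (g' : G)⁻¹ * h⁻¹ * (h * (g : G)⁻¹ * h⁻¹)⁻¹ := by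
        rw [eq_mul_inv_iff_mul_eq, mul_assoc, h1]
        group
      have h4 : h * ((g' : G)⁻¹ * (g : G)) * h⁻¹ =
          h * (g' : G)⁻¹ * h⁻¹ * (h * (g : G)⁻¹ * h⁻¹)⁻¹ := by
        group
      exact (mul_inv_eq_iff_eq_mul.1 (h4.trans h3.symm))
    have h5 := hc _ (F.mul_mem (F.inv_mem g'.2) g.2) h2
    have h6 : (g' : G) = (g : G) := inv_mul_eq_one.1 h5
    exact Subtype.ext h6.symm
  have hsurj : Function.Surjective φ := Finite.injective_iff_surjective.1 hinj
  intro y hy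
  obtain ⟨g, hg⟩ := hsurj ⟨y, hy⟩
  refine ⟨g, g.2, ?_⟩
  have h1 : (g : G) * (h * (g : G)⁻¹ * h⁻¹) = y := congrArg Subtype.val hg
  rw [← h1]
  group

/-- the elements of a cyclic group of order `4` -/
theorem mem_zpowers_four {u : G} (hu : orderOf u = 4) {h : G} (hh : h ∈ Subgroup.zpowers u) :
    h = 1 ∨ h = u ∨ h = u * u ∨ h = u⁻¹ := by
  obtain ⟨k, rfl⟩ := Subgroup.mem_zpowers_iff.1 hh
  have h4 : u ^ (4 : ℕ) = 1 := by rw [← hu, pow_orderOf_eq_one]
  have hk : u ^ k = u ^ (k % 4) := by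
    have := zpow_mod_orderOf u k
    rw [hu] at this
    exact this.symm
  have h0 : 0 ≤ k % 4 := Int.emod_nonneg k (by norm_num)
  have h1 : k % 4 < 4 := Int.emod_lt_of_pos k (by norm_num)
  rw [hk]
  generalize k % 4 = r at h0 h1
  interval_cases r
  · left; simp
  · right; left; simp
  · right; right; left
    rw [zpow_ofNat, pow_two]
  · right; right; right
    rw [zpow_ofNat]
    apply eq_inv_of_mul_eq_one_left
    rw [← pow_succ]
    exact h4

theorem pkgF20 : PkgF20.{u} := by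
  intro G _ _ T hsimple hG C hY hsumY hs hFD
  classical
  obtain ⟨hY120, -, hNY, hN20⟩ := hY
  obtain ⟨s, hso, hsu⟩ := hs
  have hp5 : Fact (Nat.Prime 5) := ⟨by norm_num⟩
  -- notation
  set f := C.f with hfdef
  set u := C.u with hudef
  have hfo : orderOf f = 5 := C.hf
  have huo : orderOf u = 4 := C.hu
  have hun : u * f * u⁻¹ ∈ Subgroup.zpowers f := C.hun
  have hNFdef : NF C = Subgroup.normalizer ((Subgroup.zpowers f : Subgroup G) : Set G) := rfl
  have hFcard : Nat.card (Subgroup.zpowers f) = 5 := by rw [Nat.card_zpowers, hfo]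
  have hUcard : Nat.card (Subgroup.zpowers u) = 4 := by rw [Nat.card_zpowers, huo]
  have hu4 : u ^ 4 = 1 := by rw [← huo, pow_orderOf_eq_one]
  have huu : (u * u) * (u * u) = 1 := by
    have h1 : (u * u) * (u * u) = u ^ 4 := by
      simp only [pow_succ, pow_zero, one_mul, mul_assoc]
    rw [h1, hu4]
  have huu1 : u * u ≠ 1 := by
    intro h
    have h1 : orderOf u ∣ 2 := orderOf_dvd_of_pow_eq_one (by rw [pow_two]; exact h)
    rw [huo] at h1
    omega
  have huuo : orderOf (u * u) = 2 := by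
    apply orderOf_eq_prime
    · rw [pow_two]; exact huu
    · exact huu1
  have hss : s * s = 1 := by rw [← pow_two, ← hso, pow_orderOf_eq_one]
  have hsinv : s⁻¹ = s := inv_eq_of_mul_eq_one_left hss
  -- the character
  set χ : G → ℂ := (T.χa : G → ℂ) with hχdef
  have hχ : Cfsg.IsCharacter G χ := by
    obtain ⟨n, ρ, -, h⟩ := T.χa.2
    exact ⟨n, ρ, h⟩
  have hχ1 : χ 1 = 10 := T.deg.2.2.1
  have hχ2 : ∀ t : G, orderOf t = 2 → χ t = 2 := fun t ht => (T.v2 t ht).2.2.1
  have hχ5 : ∀ z : G, orderOf z = 5 → χ z = 0 := fun z hz => (T.v5 z hz).2.2.1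
  have hχinv : χ u⁻¹ = χ u := by
    rw [← hsu]
    exact char_conj_eq hχ s u
  -- the Sylow 5-subgroup `⟨f⟩`
  have hFp : IsPGroup 5 (Subgroup.zpowers f) :=
    IsPGroup.of_card (n := 1) (by rw [hFcard]; norm_num)
  have hFidx : ¬ 5 ∣ (Subgroup.zpowers f).index := by
    have h1 := (Subgroup.zpowers f).card_mul_index
    rw [hFcard, hG] at h1
    have h2 : (Subgroup.zpowers f).index = 1584 := by omega
    rw [h2]
    norm_num
  obtain ⟨-, -, hCF, -⟩ := Cfsg.Agent.Lib.Helper91.M11.sylow5_full hG (hFp.toSylow hFidx)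
  rw [IsPGroup.toSylow_coe] at hCF
  -- `u` normalises `⟨f⟩`
  have huN : u ∈ NF C := by
    rw [hNFdef]
    apply Subgroup.mem_normalizer_fintype
    intro n hn
    obtain ⟨k, rfl⟩ := Subgroup.mem_zpowers_iff.1 hn
    have h1 : u * f ^ k * u⁻¹ = (u * f * u⁻¹) ^ k := (conj_zpow).symm
    rw [SetLike.mem_coe, h1]
    exact Subgroup.zpow_mem _ hun k
  have hUN : Subgroup.zpowers u ≤ NF C := Subgroup.zpowers_le.2 huN
  have hFN : Subgroup.zpowers f ≤ NF C := by
    rw [hNFdef]
    exact Subgroup.le_normalizer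
  have hnU : ∀ h ∈ Subgroup.zpowers u, ∀ y ∈ Subgroup.zpowers f,
      h * y * h⁻¹ ∈ Subgroup.zpowers f := by
    intro h hh y hy
    have hhN : h ∈ Subgroup.normalizer ((Subgroup.zpowers f : Subgroup G) : Set G) := hUN hh
    exact (Subgroup.mem_normalizer_iff.1 hhN y).1 hy
  have huuU : u * u ∈ Subgroup.zpowers u :=
    Subgroup.mul_mem _ (Subgroup.mem_zpowers u) (Subgroup.mem_zpowers u)
  have hU2U : Subgroup.zpowers (u * u) ≤ Subgroup.zpowers u := Subgroup.zpowers_le.2 huuU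
  have hnU2 : ∀ h ∈ Subgroup.zpowers (u * u), ∀ y ∈ Subgroup.zpowers f,
      h * y * h⁻¹ ∈ Subgroup.zpowers f := fun h hh => hnU h (hU2U hh)
  have hU2card : Nat.card (Subgroup.zpowers (u * u)) = 2 := by rw [Nat.card_zpowers, huuo]
  -- `⟨f⟩ ∩ ⟨u⟩ = 1`
  have hint : ∀ x ∈ Subgroup.zpowers f, x ∈ Subgroup.zpowers u → x = 1 := by
    intro x hxF hxU
    have h1 := Subgroup.orderOf_dvd_natCard _ hxF
    have h2 := Subgroup.orderOf_dvd_natCard _ hxU
    rw [hFcard] at h1
    rw [hUcard] at h2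
    have h3 : orderOf x ∣ Nat.gcd 5 4 := Nat.dvd_gcd h1 h2
    have h4 : orderOf x = 1 := by
      have : Nat.gcd 5 4 = 1 := by norm_num
      rw [this] at h3
      exact Nat.dvd_one.1 h3
    exact orderOf_eq_one_iff.1 h4
  have hint2 : ∀ x ∈ Subgroup.zpowers f, x ∈ Subgroup.zpowers (u * u) → x = 1 :=
    fun x hxF hxU => hint x hxF (hU2U hxU)
  -- nontrivial elements of `⟨u⟩` act fixed-point-freely on `⟨f⟩`
  have hfree : ∀ h ∈ Subgroup.zpowers u, h ≠ 1 → ∀ y ∈ Subgroup.zpowers f,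
      h * y = y * h → y = 1 := by
    intro h hh hh1 y hy hcomm
    by_contra hy1
    have hcen : h ∈ Subgroup.centralizer ({y} : Set G) := by
      rw [Subgroup.mem_centralizer_iff]
      intro w hw
      rw [Set.mem_singleton_iff] at hw
      subst hw
      exact hcomm.symm
    rw [Cfsg.Agent.Lib.Helper91.M11.centralizer_singleton_eq (by norm_num : Nat.Prime 5)
      (Subgroup.zpowers f) hFcard y hy hy1, hCF] at hcen
    exact hh1 (hint h hcen hh)
  have hconj : ∀ h ∈ Subgroup.zpowers u, h ≠ 1 → ∀ y ∈ Subgroup.zpowers f,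
      χ (y * h) = χ h := by
    intro h hh hh1 y hy
    obtain ⟨g, -, hg⟩ := conj_coset (Subgroup.zpowers f) h (fun y hy => hnU h hh y hy)
      (hfree h hh hh1) y hy
    rw [← hg]
    exact char_conj_eq hχ g h
  -- the subgroups `⟨f⟩⟨u⟩ = N(⟨f⟩)` and `⟨f⟩⟨u²⟩`
  have hNcard := card_semi (Subgroup.zpowers f) (Subgroup.zpowers u) hnU hint
  rw [hFcard, hUcard] at hNcard
  have hDcard := card_semi (Subgroup.zpowers f) (Subgroup.zpowers (u * u)) hnU2 hint2
  rw [hFcard, hU2card] at hDcard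
  have hNle : semi (Subgroup.zpowers f) (Subgroup.zpowers u) hnU ≤ NF C := by
    rintro x ⟨v, hv, h, hh, rfl⟩
    exact Subgroup.mul_mem _ (hFN hv) (hUN hh)
  have hNeq : semi (Subgroup.zpowers f) (Subgroup.zpowers u) hnU = NF C := by
    apply Subgroup.eq_of_le_of_card_ge hNle
    rw [hNcard, hN20]
  have hDN : semi (Subgroup.zpowers f) (Subgroup.zpowers (u * u)) hnU2 ≤ NF C := by
    rintro x ⟨v, hv, h, hh, rfl⟩
    exact Subgroup.mul_mem _ (hFN hv) (hUN (hU2U hh))
  have hFD' : Subgroup.zpowers f ≤ semi (Subgroup.zpowers f) (Subgroup.zpowers (u * u)) hnU2 :=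
    fun v hv => ⟨v, hv, 1, Subgroup.one_mem _, by simp⟩
  -- the sum over `⟨f⟩`
  have hsumF : sumOn χ (Subgroup.zpowers f) = 10 := by
    rw [sumOn_of_le χ (bot_le : (⊥ : Subgroup G) ≤ Subgroup.zpowers f) 0, sumOn_bot, hχ1]
    · simp
    · intro h hh hh1
      apply hχ5
      have h1 := Subgroup.orderOf_dvd_natCard _ hh
      rw [hFcard] at h1
      rcases (Nat.dvd_prime (by norm_num : Nat.Prime 5)).1 h1 with h2 | h2
      · exact absurd (Subgroup.mem_bot.2 (orderOf_eq_one_iff.1 h2)) hh1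
      · exact h2
  -- the sum over `⟨f⟩⟨u²⟩`
  have hsumD : sumOn χ (semi (Subgroup.zpowers f) (Subgroup.zpowers (u * u)) hnU2) = 20 := by
    rw [sumOn_of_le χ hFD' 2, hsumF, hDcard, hFcard]
    · norm_num
    · rintro x ⟨v, hv, h, hh, rfl⟩ hx
      rcases mem_zpowers_invol huu hh with rfl | rfl
      · rw [mul_one] at hx
        exact absurd hv hx
      · rw [hconj (u * u) huuU huu1 v hv]
        exact hχ2 _ huuo
  -- the sum over `N(⟨f⟩)`
  have hsumN : sumOn χ (NF C) = 20 + 10 * χ u := by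
    rw [sumOn_of_le χ hDN (χ u), hsumD, hN20, hDcard]
    · norm_num
    · intro x hxN hxD
      rw [← hNeq] at hxN
      obtain ⟨v, hv, h, hh, rfl⟩ := hxN
      rcases mem_zpowers_four huo hh with rfl | rfl | rfl | rfl
      · exact absurd ⟨v, hv, 1, Subgroup.one_mem _, rfl⟩ hxD
      · apply hconj u hh _ v hv
        intro h1
        rw [h1, orderOf_one] at huo
        omega
      · exact absurd ⟨v, hv, u * u, Subgroup.mem_zpowers _, rfl⟩ hxD
      · rw [hconj u⁻¹ hh _ v hv, hχinv]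
        intro h1
        rw [inv_eq_one] at h1
        rw [h1, orderOf_one] at huo
        omega
  -- the dihedral group `⟨u⟩⟨s⟩`
  have hsU : ∀ y ∈ Subgroup.zpowers u, s * y * s⁻¹ = y⁻¹ := by
    intro y hy
    obtain ⟨k, rfl⟩ := Subgroup.mem_zpowers_iff.1 hy
    have h1 : s * u ^ k * s⁻¹ = (s * u * s⁻¹) ^ k := (conj_zpow).symm
    rw [h1, hsu, inv_zpow]
  have hsnU : s ∉ Subgroup.zpowers u := by
    intro h
    obtain ⟨k, hk⟩ := Subgroup.mem_zpowers_iff.1 h
    have h1 : s * u * s⁻¹ = u := by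
      rw [← hk, mul_inv_eq_iff_eq_mul, ← zpow_add_one, ← zpow_one_add]
      rw [add_comm]
    rw [hsu] at h1
    apply huu1
    have h2 : u * u = u * u⁻¹ := by rw [h1]
    rw [h2, mul_inv_cancel]
  have hnS : ∀ h ∈ Subgroup.zpowers s, ∀ y ∈ Subgroup.zpowers u,
      h * y * h⁻¹ ∈ Subgroup.zpowers u := by
    intro h hh y hy
    rcases mem_zpowers_invol hss hh with h0 | h0
    · rw [h0]
      simpa using hy
    · rw [h0, hsU y hy]
      exact Subgroup.inv_mem _ hy
  have hintS : ∀ x ∈ Subgroup.zpowers u, x ∈ Subgroup.zpowers s → x = 1 := by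
    intro x hxU hxS
    rcases mem_zpowers_invol hss hxS with h0 | h0
    · exact h0
    · rw [h0] at hxU
      exact absurd hxU hsnU
  have hScard : Nat.card (Subgroup.zpowers s) = 2 := by rw [Nat.card_zpowers, hso]
  have hEcard := card_semi (Subgroup.zpowers u) (Subgroup.zpowers s) hnS hintS
  rw [hUcard, hScard] at hEcard
  have hUE : Subgroup.zpowers u ≤ semi (Subgroup.zpowers u) (Subgroup.zpowers s) hnS :=
    fun v hv => ⟨v, hv, 1, Subgroup.one_mem _, by simp⟩
  have hsumU2 : sumOn χ (Subgroup.zpowers (u * u)) = 12 := by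
    rw [sumOn_of_le χ (bot_le : (⊥ : Subgroup G) ≤ Subgroup.zpowers (u * u)) 2, sumOn_bot, hχ1,
      hU2card, Subgroup.card_bot]
    · norm_num
    · intro h hh hh1
      rcases mem_zpowers_invol huu hh with rfl | rfl
      · exact absurd (Subgroup.mem_bot.2 rfl) hh1
      · exact hχ2 _ huuo
  have hsumU : sumOn χ (Subgroup.zpowers u) = 12 + 2 * χ u := by
    rw [sumOn_of_le χ hU2U (χ u), hsumU2, hUcard, hU2card]
    · norm_num
    · intro h hh hh2
      rcases mem_zpowers_four huo hh with rfl | rfl | rfl | rfl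
      · exact absurd (Subgroup.one_mem _) hh2
      · rfl
      · exact absurd (Subgroup.mem_zpowers _) hh2
      · exact hχinv
  have hsumE : sumOn χ (semi (Subgroup.zpowers u) (Subgroup.zpowers s) hnS) = 20 + 2 * χ u := by
    rw [sumOn_of_le χ hUE 2, hsumU, hEcard, hUcard]
    · ring
    · rintro x ⟨v, hv, h, hh, rfl⟩ hx
      rcases mem_zpowers_invol hss hh with h0 | h0
      · rw [h0, mul_one] at hx
        exact absurd hv hx
      · rw [h0]
        apply hχ2
        apply orderOf_eq_prime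
        · have h1 := hsU v hv
          have h2 : (v * s) ^ 2 = v * (s * v * s⁻¹) * (s * s) := by
            rw [pow_two]
            group
          rw [h2, h1, hss]
          group
        · intro h1
          apply hsnU
          have h2 : s = v⁻¹ := eq_inv_of_mul_eq_one_right h1
          rw [h2]
          exact Subgroup.inv_mem _ hv
  -- the fixed-space dimensions
  obtain ⟨d, hd, hmono⟩ := hFD G χ hχ
  have hdF : d (Subgroup.zpowers f) = 2 := by
    have h1 := hd (Subgroup.zpowers f)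
    rw [hsumF, hFcard] at h1
    have h2 : ((5 * d (Subgroup.zpowers f) : ℕ) : ℂ) = ((10 : ℕ) : ℂ) := by
      push_cast
      push_cast at h1
      exact h1.symm
    have h3 : 5 * d (Subgroup.zpowers f) = 10 := by exact_mod_cast h2
    omega
  have hdY : d (Y0 C) = 1 := by
    have h1 := hd (Y0 C)
    rw [hsumY, hY120] at h1
    have h2 : ((120 * d (Y0 C) : ℕ) : ℂ) = ((120 : ℕ) : ℂ) := by
      push_cast
      push_cast at h1
      exact h1.symm
    have h3 : 120 * d (Y0 C) = 120 := by exact_mod_cast h2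
    omega
  have hdN1 : d (NF C) ≤ 2 := by
    rw [← hdF]
    exact hmono _ _ hFN
  have hdN2 : 1 ≤ d (NF C) := by
    rw [← hdY]
    exact hmono _ _ hNY
  have h1 := hd (NF C)
  rw [hsumN, hN20] at h1
  have h2 := hd (semi (Subgroup.zpowers u) (Subgroup.zpowers s) hnS)
  rw [hsumE, hEcard] at h2
  have h3 : ((4 + d (NF C) : ℕ) : ℂ) =
      ((2 * d (semi (Subgroup.zpowers u) (Subgroup.zpowers s) hnS) : ℕ) : ℂ) := by
    push_cast
    push_cast at h1 h2
    linear_combination (-1 / 20 : ℂ) * h1 + (1 / 4 : ℂ) * h2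
  have h4 : 4 + d (NF C) = 2 * d (semi (Subgroup.zpowers u) (Subgroup.zpowers s) hnS) := by
    exact_mod_cast h3
  have h5 : d (NF C) = 2 := by omega
  rw [hd (NF C), hN20, h5]
  norm_num

end Cfsg.Agent.Lib.Helper4.M11U
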